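import Cfsg.Agent.H36.GW.Layer
import Cfsg.Agent.H4.GW.AutShape
import Cfsg.Agent.H74.SchurPerfect
import Cfsg.Agent.H74.SchurBasic
import Cfsg.Agent.S2116
import Cfsg.Agent.S2117
import Cfsg.Agent.S2118
import Cfsg.Agent.Linear.Order
import Cfsg.Agent.Linear.Generation

/-!
# GW programme, P1: the layer meets the core trivially, or is `3.A₆` or `3.A₇`

With the shape hypothesis on the quotient by the core, the layer is a perfect central extension of `L₂(q)` or
of `A₇` with kernel of odd order; the Schur multipliers bound that kernel.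
-/

set_option autoImplicit false
set_option linter.style.haveILetI false

namespace Cfsg.Agent.H70.GW

open Subgroup Cfsg.Agent

universe u v w

/-- The kernel of a perfect central extension divides the multiplier of a covering group times the kernel of
that group. -/
theorem card_ker_dvd {E : Type u} {Q : Type v} {R : Type w} [Group E] [Group Q] [Group R] [Finite E]
    [Finite R] [Group.IsPerfect E] (hR : Group.IsPerfect R) (π : E →* Q) (hπ : Function.Surjective π)
    (hker : π.ker ≤ center E) (p : R →* Q) (hp : Function.Surjective p) {n : ℕ}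
    (hn : Cfsg.HasCyclicSchurMultiplier R n) : Nat.card π.ker ∣ n * Nat.card p.ker := by
  haveI : Finite Q := Finite.of_surjective π hπ
  let D : Subgroup (E × R) := (π.comp (MonoidHom.fst E R)).eqLocus (p.comp (MonoidHom.snd E R))
  let ρ : D →* R := (MonoidHom.snd E R).comp D.subtype
  have hρ : Function.Surjective ρ := fun r => by
    obtain ⟨e, he⟩ := hπ (p r)
    exact ⟨⟨(e, r), he⟩, rfl⟩
  have hc : ρ.ker ≤ center D := fun x hx => mem_center_iff.2 fun y => by
    have h2 : (x : E × R).2 = 1 := hx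
    have h1 : (x : E × R).1 ∈ π.ker := by
      rw [MonoidHom.mem_ker, show π (x : E × R).1 = p (x : E × R).2 from x.2, h2, map_one]
    refine Subtype.ext (Prod.ext (mem_center_iff.1 (hker h1) _) ?_)
    show (y : E × R).2 * (x : E × R).2 = (x : E × R).2 * (y : E × R).2
    rw [h2, one_mul, mul_one]
  obtain ⟨hmap, hD⟩ := H74.Schur.commutator_perfect hρ hc hR
  let σ : commutator D →* R := ρ.comp (commutator D).subtype
  have hσs : Function.Surjective σ := fun r => by
    obtain ⟨d, hd, hde⟩ : r ∈ (commutator D).map ρ := hmap ▸ mem_top _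
    exact ⟨⟨d, hd⟩, hde⟩
  have hst : Cfsg.IsStemExtension σ := by
    refine ⟨hσs, fun x hx => mem_center_iff.2 fun y =>
      Subtype.ext (mem_center_iff.1 (hc hx) (y : D)), ?_⟩
    rw [hD.commutator_eq_top]
    exact le_top
  obtain ⟨f, hf⟩ := H74.Schur.exists_surjective_ker hn hst
  haveI : Finite (Multiplicative (ZMod n)) := H74.Schur.finite_of_hasSchurMultiplier hn
  have hdvd : Nat.card σ.ker ∣ n := by
    have := Subgroup.card_dvd_of_surjective f hf
    rwa [(Nat.card_congr Multiplicative.toAdd).trans (Nat.card_zmod n)] at this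
  let η : commutator D →* E := (MonoidHom.fst E R).comp (D.subtype.comp (commutator D).subtype)
  have hη : ∀ x, π (η x) = p (σ x) := fun x => ((x : D)).2
  have hsup : η.range ⊔ center E = ⊤ := by
    refine eq_top_iff.2 fun e _ => ?_
    obtain ⟨r, hr⟩ := hp (π e)
    obtain ⟨x, hx⟩ := hσs r
    have h1 : (η x)⁻¹ * e ∈ center E := hker (by
      rw [MonoidHom.mem_ker, map_mul, map_inv, hη, hx, hr, inv_mul_cancel])
    have := mul_mem (mem_sup_left (T := center E) (MonoidHom.mem_range.2 ⟨x, rfl⟩))
      (mem_sup_right (S := η.range) h1)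
    rwa [mul_inv_cancel_left] at this
  have hηs : Function.Surjective η := by
    rw [← MonoidHom.range_eq_top, eq_top_iff, ← Group.IsPerfect.commutator_eq_top (G := E)]
    refine Subgroup.commutator_le.2 fun a _ b _ => ?_
    obtain ⟨a', ha', z, hz, rfl⟩ := Subgroup.mem_sup_of_normal_right.1 (hsup ▸ mem_top a : a ∈ η.range ⊔ center E)
    obtain ⟨b', hb', z', hz', rfl⟩ := Subgroup.mem_sup_of_normal_right.1 (hsup ▸ mem_top b : b ∈ η.range ⊔ center E)
    rw [commutatorElement_def, H74.Schur.commutatorElement_mul_central hz hz']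
    exact mul_mem (mul_mem (mul_mem ha' hb') (inv_mem ha')) (inv_mem hb')
  have hE : Nat.card Q * Nat.card π.ker ∣ Nat.card Q * Nat.card p.ker * Nat.card σ.ker := by
    have h1 := Subgroup.card_dvd_of_surjective η hηs
    rw [Subgroup.card_eq_card_quotient_mul_card_subgroup π.ker,
      Nat.card_congr (QuotientGroup.quotientKerEquivOfSurjective π hπ).toEquiv,
      Subgroup.card_eq_card_quotient_mul_card_subgroup σ.ker,
      Nat.card_congr (QuotientGroup.quotientKerEquivOfSurjective σ hσs).toEquiv,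
      Subgroup.card_eq_card_quotient_mul_card_subgroup p.ker,
      Nat.card_congr (QuotientGroup.quotientKerEquivOfSurjective p hp).toEquiv] at h1
    exact h1
  have h2 : Nat.card π.ker ∣ Nat.card p.ker * Nat.card σ.ker := by
    rw [mul_assoc] at hE
    exact Nat.dvd_of_mul_dvd_mul_left Nat.card_pos hE
  exact h2.trans (by rw [mul_comm]; exact Nat.mul_dvd_mul_right hdvd _)

theorem eq_one_or_three {z : ℕ} (hz : Odd z) (h : z ∣ 6) : z = 1 ∨ z = 3 := by
  have h6 : z ≤ 6 := Nat.le_of_dvd (by norm_num) h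
  interval_cases z <;> simp_all (config := { decide := true })

/-- An odd-kernelled perfect central extension of `L₂(q)` or of `A₇`. -/
theorem card_ker_cases {E : Type u} {L : Type u} [Group E] [Group L] [Finite E] [Group.IsPerfect E]
    (h : H63.GW.SimpleShape L) (π : E →* L) (hπ : Function.Surjective π) (hker : π.ker ≤ center E)
    (hodd : Odd (Nat.card π.ker)) :
    Nat.card π.ker = 1 ∨ (Nat.card π.ker = 3 ∧ (Nat.card L = 360 ∨ Nat.card L = 2520)) := by
  haveI : Finite L := Finite.of_surjective π hπ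
  rcases h with ⟨F, iF, iT, hF, h3, ⟨f⟩⟩ | ⟨⟨f⟩⟩
  · classical
    set π' := f.toMonoidHom.comp π with hπ'
    have hk : π'.ker = π.ker := by
      ext x; simp [hπ', MonoidHom.mem_ker]
    let p : Matrix.SpecialLinearGroup (Fin 2) F →* Matrix.ProjectiveSpecialLinearGroup (Fin 2) F :=
      QuotientGroup.mk' _
    have hp : Nat.card p.ker = 2 := by
      rw [show p.ker = Subgroup.center _ from QuotientGroup.ker_mk' _, Linear.card_center_SL, Fintype.card_fin]
      rcases hF with ⟨k, hk'⟩
      rw [hk', show 2 * k + 1 - 1 = 2 * k by omega]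
      exact Nat.gcd_eq_left ⟨k, rfl⟩
    have hperf : Group.IsPerfect (Matrix.SpecialLinearGroup (Fin 2) F) :=
      ⟨Linear.commutator_SL_eq_top_of_card (Or.inr (by rw [Nat.card_eq_fintype_card]; omega))⟩
    have key : ∀ n, Cfsg.HasCyclicSchurMultiplier (Matrix.SpecialLinearGroup (Fin 2) F) n →
        Nat.card π.ker ∣ n * 2 := fun n hn => by
      have := card_ker_dvd hperf π' (f.surjective.comp hπ) (hk ▸ hker) p (QuotientGroup.mk'_surjective _) hn
      rwa [hk, hp] at this
    by_cases h9 : Fintype.card F = 9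
    · rcases eq_one_or_three hodd (key 3 (S2118.result h9)) with h | h
      · exact Or.inl h
      · refine Or.inr ⟨h, Or.inl ?_⟩
        have hc := Linear.card_PSL_two_mul (F := F)
        rw [h9, ← Nat.card_congr f.toEquiv, show Nat.gcd 2 (9 - 1) = 2 from rfl] at hc
        omega
    · have h4 : Fintype.card F ≠ 4 := fun h => absurd (h ▸ hF) (by decide)
      exact Or.inl (Nat.eq_one_of_dvd_coprimes (Nat.coprime_two_right.2 hodd) dvd_rfl
        (by simpa using key 1 (S2117.result h4 h9)))
  · set π' := f.toMonoidHom.comp π with hπ'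
    have hk : π'.ker = π.ker := by
      ext x; simp [hπ', MonoidHom.mem_ker]
    haveI : IsSimpleGroup (alternatingGroup (Fin 7)) := alternatingGroup.isSimpleGroup (by simp)
    have hperf : Group.IsPerfect (alternatingGroup (Fin 7)) :=
      ⟨commutator_alternatingGroup_eq_top (by simp)⟩
    have := card_ker_dvd hperf π' (f.surjective.comp hπ) (hk ▸ hker) (MonoidHom.id _)
      Function.surjective_id (S2116.result 7 (Or.inr rfl))
    rw [hk, show (MonoidHom.id (alternatingGroup (Fin 7))).ker = ⊥ from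
      (MonoidHom.ker_eq_bot_iff _).2 Function.injective_id, Subgroup.card_bot, mul_one] at this
    rcases eq_one_or_three hodd this with h | h
    · exact Or.inl h
    · refine Or.inr ⟨h, Or.inr ?_⟩
      rw [Nat.card_congr f.toEquiv]
      have h2 := two_mul_card_alternatingGroup (α := Fin 7)
      rw [Fintype.card_perm, Fintype.card_fin] at h2
      rw [Nat.card_eq_fintype_card]
      norm_num [Nat.factorial] at h2 ⊢
      omega

variable {Y : Type u} [Group Y] [Finite Y]

/-- The layer modulo the core is the simple normal subgroup. -/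
theorem layer_cases (hY : H63.GW.SylowDType Y) (hP : H63.GW.PerfectHyp (Y ⧸ Cfsg.oddCore Y))
    (hE : Cfsg.layer Y ≠ ⊥) :
    Cfsg.layer Y ⊓ Cfsg.oddCore Y = ⊥ ∨
      (Nat.card ↥(Cfsg.layer Y ⊓ Cfsg.oddCore Y) = 3 ∧
        (Nat.card ↥(Cfsg.layer Y) = 3 * 360 ∨ Nat.card ↥(Cfsg.layer Y) = 3 * 2520)) := by
  classical
  haveI : Fact (Nat.Prime 2) := ⟨Nat.prime_two⟩
  haveI := H36.GW.layer_isPerfect (Y := Y)
  haveI : (Cfsg.layer Y).Normal := Components.layer_normal
  haveI : Nontrivial ↥(Cfsg.layer Y) := (Subgroup.nontrivial_iff_ne_bot _).2 hE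
  set mk := QuotientGroup.mk' (Cfsg.oddCore Y) with hmk
  have hO : Cfsg.oddCore (Y ⧸ Cfsg.oddCore Y) = ⊥ := Cores.pPrimeCore_quotient_pPrimeCore (p := 2)
  have hsh := hY.quotient (Cfsg.oddCore Y) Cores.odd_card_oddCore
  have hns : ¬ Group.IsSolvable (Y ⧸ Cfsg.oddCore Y) := by
    intro hs
    haveI := hs
    haveI : Group.IsSolvable ↥(Cfsg.oddCore Y) := S0205.result Cores.odd_card_oddCore
    haveI : Group.IsSolvable Y := Group.isSolvable_of_ker_le_range (Cfsg.oddCore Y).subtype mk (by simp [hmk])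
    exact Group.IsPerfect.not_isSolvable ↥(Cfsg.layer Y) inferInstance
  obtain ⟨L, hLn, hL, hLC⟩ := H63.GW.nonsolvable_shape hsh hO hP hns
  haveI := hLn
  haveI := hL.isSimpleGroup
  set Ebar := (Cfsg.layer Y).map mk with hEbar
  haveI : Ebar.Normal := Subgroup.Normal.map inferInstance _ (QuotientGroup.mk'_surjective _)
  have hperf : Group.IsPerfect ↥Ebar := ⟨by
    apply Subgroup.map_injective Ebar.subtype_injective
    rw [commutator_def, Subgroup.map_commutator, ← MonoidHom.range_eq_map, Subgroup.range_subtype, hEbar,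
      ← Subgroup.map_commutator, Components.layer_perfect]⟩
  have hLE : L ≤ Ebar := by
    rcases hL.isSimpleGroup.eq_bot_or_eq_top_of_normal (Ebar.subgroupOf L) inferInstance with h | h
    · exfalso
      have hc : Ebar ≤ centralizer (L : Set (Y ⧸ Cfsg.oddCore Y)) := by
        have hd : Disjoint Ebar L := disjoint_iff.2 (by
          rw [eq_bot_iff]
          intro x hx
          have : (⟨x, hx.2⟩ : L) ∈ Ebar.subgroupOf L := hx.1
          rw [h, mem_bot] at this
          exact mem_bot.2 (congrArg Subtype.val this))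
        intro x hx
        exact mem_centralizer_iff.2 fun y hy =>
          (Subgroup.commute_of_normal_of_disjoint _ _ inferInstance inferInstance hd x y hx hy).symm.eq
      rw [hLC, le_bot_iff, Subgroup.map_eq_bot_iff, QuotientGroup.ker_mk'] at hc
      haveI : Group.IsSolvable ↥(Cfsg.oddCore Y) := S0205.result Cores.odd_card_oddCore
      exact Group.IsPerfect.not_isSolvable ↥(Cfsg.layer Y)
        (Group.isSolvable_of_isSolvable_injective (Subgroup.inclusion_injective hc))
    · intro x hx
      exact (h ▸ mem_top (⟨x, hx⟩ : L) : (⟨x, hx⟩ : L) ∈ Ebar.subgroupOf L)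
  have hEL : Ebar = L := by
    refine le_antisymm ?_ hLE
    have hC' : centralizer (L.subgroupOf Ebar : Set ↥Ebar) = ⊥ := by
      rw [eq_bot_iff]
      intro x hx
      have : (x : Y ⧸ Cfsg.oddCore Y) ∈ centralizer (L : Set (Y ⧸ Cfsg.oddCore Y)) :=
        mem_centralizer_iff.2 fun y hy =>
          congrArg Subtype.val (mem_centralizer_iff.1 hx ⟨y, hLE hy⟩ hy)
      rw [hLC, mem_bot] at this
      exact mem_bot.2 (Subtype.ext this)
    haveI := hperf
    have htop : L.subgroupOf Ebar = ⊤ := by
      rcases hL with ⟨F, iF, iT, hF, h3, ⟨f⟩⟩ | ⟨⟨f⟩⟩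
      · exact H4.GW.psl_eq_top ((Subgroup.subgroupOfEquivOfLe hLE).trans f) hC'
      · exact H4.GW.alt_eq_top_of_perfect hC' ((Subgroup.subgroupOfEquivOfLe hLE).trans f)
    exact Subgroup.subgroupOf_eq_top.1 htop
  let π : ↥(Cfsg.layer Y) →* ↥L := (mk.comp (Cfsg.layer Y).subtype).codRestrict L fun x =>
    hEL ▸ mem_map_of_mem _ x.2
  have hπ : Function.Surjective π := fun y => by
    obtain ⟨x, hx, hxy⟩ : (y : Y ⧸ Cfsg.oddCore Y) ∈ Ebar := hEL ▸ y.2
    exact ⟨⟨x, hx⟩, Subtype.ext hxy⟩
  have hmem : ∀ x, x ∈ π.ker ↔ (x : Y) ∈ Cfsg.oddCore Y := fun x =>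
    ⟨fun h => (QuotientGroup.eq_one_iff _).1 (congrArg Subtype.val h),
      fun h => Subtype.ext ((QuotientGroup.eq_one_iff _).2 h)⟩
  have hker : π.ker ≤ center ↥(Cfsg.layer Y) := fun x hx => mem_center_iff.2 fun y =>
    Subtype.ext (H36.GW.layer_commute_oddCore y.2 ((hmem x).1 hx)).eq
  let e : π.ker ≃ ↥(Cfsg.layer Y ⊓ Cfsg.oddCore Y) :=
    { toFun := fun x => ⟨(x : ↥(Cfsg.layer Y)), ⟨x.1.2, (hmem x).1 x.2⟩⟩
      invFun := fun x => ⟨⟨x, x.2.1⟩, (hmem _).2 x.2.2⟩
      left_inv := fun x => rfl
      right_inv := fun x => rfl }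
  have hodd : Odd (Nat.card π.ker) := by
    rw [Nat.card_congr e]
    exact Odd.of_dvd_nat Cores.odd_card_oddCore (Subgroup.card_dvd_of_le inf_le_right)
  rcases card_ker_cases hL π hπ hker hodd with h | ⟨h, hcard⟩
  · left
    rw [← Subgroup.card_eq_one, ← Nat.card_congr e, h]
  · right
    refine ⟨by rw [← Nat.card_congr e, h], ?_⟩
    have h1 := Subgroup.card_eq_card_quotient_mul_card_subgroup π.ker
    rw [Nat.card_congr (QuotientGroup.quotientKerEquivOfSurjective π hπ).toEquiv, h] at h1
    rcases hcard with hc | hc <;> rw [hc] at h1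
    · exact Or.inl h1
    · exact Or.inr h1

variable {G : Type u} [Group G] [Finite G]

/-- The `cover` field of `LayerShape`. -/
theorem cover {S : Sylow 2 G} {l : ℕ} {c s : G} (hD : H39.DGen (S : Subgroup G) l c s) {X : Subgroup G}
    (hP : H63.GW.PerfectHyp (↥X ⧸ Cfsg.oddCore ↥X)) (hE : Components.layerIn X ≠ ⊥) :
    Components.layerIn X ⊓ GW.coreIn X = ⊥ ∨
      (Nat.card ↥(Components.layerIn X ⊓ GW.coreIn X) = 3 ∧
        (Nat.card ↥(Components.layerIn X) = 3 * 360 ∨ Nat.card ↥(Components.layerIn X) = 3 * 2520)) := by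
  have hinf : Components.layerIn X ⊓ GW.coreIn X = (Cfsg.layer ↥X ⊓ Cfsg.oddCore ↥X).map X.subtype :=
    (Subgroup.map_inf_eq _ _ _ X.subtype_injective).symm
  rcases layer_cases ((H36.GW.sylowDType_of_dGen hD).subgroup X) hP (H36.GW.layerIn_ne_bot_iff.mp hE) with
    h | ⟨h1, h2⟩
  · left
    rw [hinf, h, Subgroup.map_bot]
  · right
    rw [hinf, Subgroup.card_subtype, Components.layerIn, Subgroup.card_subtype]
    exact ⟨h1, h2⟩

end Cfsg.Agent.H70.GW
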